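import Groth.Agent.Lib.GraphFam26.Basic
import Groth.Agent.Lib.CurveNF.Complete
import Groth.Agent.Lib.SmoothReg17.Basic
import Groth.Agent.Lib.RegSmooth17.Scheme
import Groth.Agent.Lib.Weight4.GeomSum
import Groth.Agent.Lib.AffCompl.Compl
import Groth.Agent.Lib.VarDim.Fibre
import Groth.Agent.Lib.Cyc26.Closure
import Groth.Agent.Lib.Cyc26.DegC1
import Groth.Agent.Lib.Cyc26.PushDiv
import Groth.Agent.Lib.VB17.Setup
import Groth.Agent.Lib.ProjSpace.BaseChange
import Groth.Agent.S7645

/-!
# Points of an irreducible proper variety are algebraically equivalent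

Over an algebraically closed field, any two closed points of an irreducible proper scheme are algebraically
equivalent.  The proof is an induction on the dimension: a variety of dimension at least two has the two
points on the complement of an affine open avoiding them, which is connected and of smaller dimension; on a
curve one passes to the normalisation, a smooth projective curve, and takes the graph of the projection.
-/

set_option autoImplicit false
set_option backward.isDefEq.respectTransparency false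
set_option backward.isDefEq.respectTransparency.types false
set_option linter.style.haveILetI false
universe u

open CategoryTheory CategoryTheory.Limits AlgebraicGeometry

namespace Groth.Agent.AlgEq26

variable {k : Type u} [Field k]

theorem sdim_comp_of_isFinite {X Y : Scheme.{u}} (p : Y ⟶ Spec (CommRingCat.of k)) [LocallyOfFiniteType p]
    (f : X ⟶ Y) [IsFinite f] (x : X) : VarDim.sdim (f ≫ p) x = VarDim.sdim p (f x) := by
  rw [VarDim.sdim_comp_eq p f x]
  letI := (f.residueFieldMap x).hom.toAlgebra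
  haveI : Module.Finite (Y.residueField (f x)) (X.residueField x) :=
    RingHom.finite_algebraMap.mp (Weight.finite_residueFieldMap f x (f.quasiFiniteAt x))
  haveI : Algebra.IsAlgebraic (Y.residueField (f x)) (X.residueField x) := inferInstance
  rw [VarDim.tdeg, trdeg_eq_zero (R := Y.residueField (f x)) (A := X.residueField x), map_zero, add_zero]

open scoped Classical in
/-- The cycle of a point. -/
noncomputable def pt {X : Scheme.{u}} (x : X) : AlgebraicCycle X ℤ :=
  Function.locallyFinsuppWithin.single x (1 : ℤ)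

variable {X : Scheme.{u}} (p : X ⟶ Spec (CommRingCat.of k))

/-- Algebraic equivalence of points. -/
def Rel (a b : X) : Prop := pt a - pt b ∈ AlgEqCyc.algTriv p

theorem Rel.refl (a : X) : Rel p a a := by show pt a - pt a ∈ _; rw [sub_self]; exact zero_mem _

theorem Rel.symm {a b : X} (h : Rel p a b) : Rel p b a := by
  show pt b - pt a ∈ _
  rw [← neg_sub]; exact neg_mem h

theorem Rel.trans {a b c : X} (h : Rel p a b) (h' : Rel p b c) : Rel p a c := by
  show pt a - pt c ∈ _
  rw [← sub_add_sub_cancel (pt a) (pt b) (pt c)]; exact add_mem h h'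

variable [IsAlgClosed k] [IsProper p]

/-- Two closed points on a proper normal integral curve mapping to `X`. -/
theorem rel_of_normal_curve {C : Scheme.{u}} (q : C ⟶ Spec (CommRingCat.of k)) [IsProper q] [IsIntegral C]
    (hn : Pi1.IsNormalScheme C) (hd : VarDim.sdim q (genericPoint C) = 1) (ν : C ⟶ X) (hν : ν ≫ p = q)
    {a b : C} (ha : IsClosed ({a} : Set C)) (hb : IsClosed ({b} : Set C)) : Rel p (ν a) (ν b) := by
  classical
  haveI : IsLocallyNoetherian C := LocallyOfFiniteType.isLocallyNoetherian q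
  haveI : LocallyOfFinitePresentation q := inferInstance
  have hC := (CurveNF.curve_iff_sdim_genericPoint q).2 hd
  have hreg : ∀ y : C, IsRegularLocalRing (C.presheaf.stalk y) := fun y => by
    haveI := (hn y).1
    haveI := (hn y).2
    exact DVRVal.isRegularLocalRing_of_normal _ (DVRVal.ringKrullDim_stalk_le_one q hC y)
  have hsm : Smooth q := RegSmooth17.smooth_of_regular_of_perfectField q hreg
  have hdim : topologicalKrullDim C = 1 := by
    rw [VarDim.dim_eq_sdim_genericPoint q, hd]; rfl
  letI : C.Over (Spec (CommRingCat.of k)) := ⟨q⟩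
  haveI : IsProper (C ↘ (Spec (CommRingCat.of k))) := ‹IsProper q›
  obtain ⟨n, i, hi, hiq⟩ := S7645.result k C hdim.le
  haveI := hi
  have hproj : Neron.IsProjectiveOver k (Over.mk q) := by
    refine ⟨n, i ≫ (ProjSpace.overSpecIso n k).hom, inferInstance, ?_⟩
    show (i ≫ (ProjSpace.overSpecIso n k).hom) ≫ _ = q
    rw [Category.assoc, ProjSpace.overSpecIso_hom_toBase, hiq]
    rfl
  have h := GraphFam26.isElemAlgTriv p q ν hsm hproj ‹IsIntegral C› hdim hν
    (pointOfClosedPoint q a ha) (pointOfClosedPoint q b hb)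
    (pointOfClosedPoint_comp _ _ _) (pointOfClosedPoint_comp _ _ _)
  rw [show pointOfClosedPoint q a ha (IsLocalRing.closedPoint k) = a from pointOfClosedPoint_apply _ _ _ _,
    show pointOfClosedPoint q b hb (IsLocalRing.closedPoint k) = b from pointOfClosedPoint_apply _ _ _ _] at h
  exact AddSubgroup.subset_closure h

/-- Two closed points on a proper integral curve mapping to `X`. -/
theorem rel_of_curve {Z : Scheme.{u}} (r : Z ⟶ Spec (CommRingCat.of k)) [IsProper r] [IsIntegral Z]
    (hd : VarDim.sdim r (genericPoint Z) = 1) (j : Z ⟶ X) (hj : j ≫ p = r)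
    {x y : Z} (hx : IsClosed ({x} : Set Z)) (hy : IsClosed ({y} : Set Z)) : Rel p (j x) (j y) := by
  haveI : IsLocallyNoetherian Z := LocallyOfFiniteType.isLocallyNoetherian r
  haveI : QuasiCompact (Z.fromSpecStalk (genericPoint Z)) := inferInstance
  haveI : QuasiSeparated (Z.fromSpecStalk (genericPoint Z)) := inferInstance
  let g := Z.fromSpecStalk (genericPoint Z)
  have hg : g = Spec.map (CommRingCat.ofHom (RingHom.id Z.functionField)) ≫ g := by
    erw [Spec.map_id, Category.id_comp]
  obtain ⟨hI, hN⟩ := CurveNF.isIntegral_and_normal (g := g) hg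
  haveI := hI
  haveI : IsFinite g.fromNormalization := CurveNF.isFinite_fromNormalization (g := g) hg r (RingHom.Finite.id _)
  haveI := CurveNF.surjective_fromNormalization (g := g) hg
  have hd' : VarDim.sdim (g.fromNormalization ≫ r) (genericPoint g.normalization) = 1 := by
    rw [sdim_comp_of_isFinite r g.fromNormalization, CurveNF.fromNormalization_genericPoint (g := g) hg, hd]
  haveI : JacobsonSpace g.normalization := LocallyOfFiniteType.jacobsonSpace (g.fromNormalization ≫ r)
  have hlift : ∀ z : Z, IsClosed ({z} : Set Z) →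
      ∃ w, IsClosed ({w} : Set g.normalization) ∧ g.fromNormalization w = z := by
    intro z hz
    obtain ⟨w₀, hw₀⟩ := g.fromNormalization.surjective z
    obtain ⟨w, hw, hwc⟩ := nonempty_inter_closedPoints (Z := g.fromNormalization ⁻¹' {z}) ⟨w₀, hw₀⟩
      (hz.preimage g.fromNormalization.continuous).isLocallyClosed
    exact ⟨w, hwc, hw⟩
  obtain ⟨a, ha, rfl⟩ := hlift x hx
  obtain ⟨b, hb, rfl⟩ := hlift y hy
  exact rel_of_normal_curve p (g.fromNormalization ≫ r) hN hd' (g.fromNormalization ≫ j)
    (by rw [Category.assoc, hj]) ha hb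

/-- Two closed points in the closure of any point are algebraically equivalent. -/
theorem rel_of_specializes {ζ x y : X} (hx : IsClosed ({x} : Set X)) (hy : IsClosed ({y} : Set X))
    (hζx : ζ ⤳ x) (hζy : ζ ⤳ y) : Rel p x y := by
  haveI : JacobsonSpace X := LocallyOfFiniteType.jacobsonSpace p
  haveI : IsLocallyNoetherian X := LocallyOfFiniteType.isLocallyNoetherian p
  haveI : CompactSpace X := QuasiCompact.compactSpace_of_compactSpace p
  haveI : IsNoetherian X := ⟨⟩
  induction h : VarDim.sdim p ζ using Nat.strong_induction_on generalizing ζ x y with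
  | _ m IH =>
  subst h
  rcases Nat.eq_zero_or_pos (VarDim.sdim p ζ) with h0 | hpos
  · have hc := (VarDim.sdim_eq_zero_iff_isClosed p ζ).1 h0
    have e1 : x = ζ := hζx.mem_closed hc rfl
    have e2 : y = ζ := hζy.mem_closed hc rfl
    rw [e1, e2]
    exact Rel.refl p ζ
  obtain ⟨Z, i, hi, hZ, hrange, hgen⟩ := Cyc26.exists_closure_subscheme X ζ
  haveI := hi
  haveI := hZ
  have hxr : x ∈ Set.range i := hrange ▸ specializes_iff_mem_closure.1 hζx
  have hyr : y ∈ Set.range i := hrange ▸ specializes_iff_mem_closure.1 hζy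
  obtain ⟨x', rfl⟩ := hxr
  obtain ⟨y', rfl⟩ := hyr
  have hclosed : ∀ z : Z, IsClosed ({i z} : Set X) → IsClosed ({z} : Set Z) := fun z hz => by
    have := hz.preimage i.continuous
    rwa [show i ⁻¹' {i z} = {z} from
      Set.ext fun w => ⟨fun hw => i.isClosedEmbedding.injective hw, fun hw => congrArg i hw⟩] at this
  have hx' := hclosed x' hx
  have hy' := hclosed y' hy
  have hsd : VarDim.sdim (i ≫ p) (genericPoint Z) = VarDim.sdim p ζ := by
    rw [VarDim.sdim_comp_of_surjective p i, hgen]
  rcases Nat.eq_or_lt_of_le (Nat.one_le_iff_ne_zero.2 hpos.ne') with h1 | h2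
  · exact rel_of_curve p (i ≫ p) (hsd.trans h1.symm) i rfl hx' hy'
  -- dimension at least two: the points lie on the connected complement of an affine open
  have hdim : (2 : WithBot ℕ∞) ≤ topologicalKrullDim Z := by
    rw [VarDim.dim_eq_sdim_genericPoint (i ≫ p), hsd]
    exact_mod_cast h2
  have hne : ∀ z : Z, IsClosed ({z} : Set Z) → genericPoint Z ≠ z := fun z hz e => by
    have h0 := (VarDim.sdim_eq_zero_iff_isClosed (i ≫ p) z).2 hz
    rw [← e, hsd] at h0
    omega
  obtain ⟨U, hU, hηU, hUV⟩ := exists_isAffineOpen_mem_and_subset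
    (U := (⟨({x'} ∪ {y'} : Set Z)ᶜ, (hx'.union hy').isOpen_compl⟩ : Z.Opens)) (x := genericPoint Z)
    (show genericPoint Z ∈ ({x'} ∪ {y'} : Set Z)ᶜ from by
      rintro (e | e)
      · exact hne x' hx' e
      · exact hne y' hy' e)
  have hconn : _root_.IsConnected (i '' (U : Set Z)ᶜ) :=
    (AffCompl.isConnected_compl_affineOpen (i ≫ p) hdim hU ⟨_, hηU⟩).image i i.continuous.continuousOn
  set F : Set X := i '' (U : Set Z)ᶜ with hF
  have hFc : IsClosed F := i.isClosedEmbedding.isClosedMap _ U.2.isClosed_compl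
  have hxF : i x' ∈ F := ⟨x', fun hm => hUV hm (Or.inl rfl), rfl⟩
  have hyF : i y' ∈ F := ⟨y', fun hm => hUV hm (Or.inr rfl), rfl⟩
  obtain ⟨G, hG⟩ := VarDim.exists_finite_generic hFc
  have hlt : ∀ g ∈ G, VarDim.sdim p g < VarDim.sdim p ζ := by
    intro g hg
    obtain ⟨z, hz, hzg⟩ : g ∈ F := (hG g).2 ⟨g, hg, specializes_rfl⟩
    refine VarDim.sdim_lt_of_specializes p ?_ ?_
    · rw [specializes_iff_mem_closure, ← hrange]; exact ⟨z, hzg⟩
    · intro e
      exact hz (by rw [i.isClosedEmbedding.injective ((hzg.trans e.symm).trans hgen.symm)]; exact hηU)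
  classical
  let S : Finset X := G.filter fun g => ∀ c : X, IsClosed ({c} : Set X) → g ⤳ c → Rel p (i x') c
  have hcl : ∀ T : Finset X, IsClosed (⋃ g ∈ T, closure ({g} : Set X)) := fun T =>
    T.finite_toSet.isClosed_biUnion fun g _ => isClosed_closure
  obtain ⟨gx, hgx, hgxx⟩ := (hG _).1 hxF
  obtain ⟨gy, hgy, hgyy⟩ := (hG _).1 hyF
  have hgxS : gx ∈ S := Finset.mem_filter.2 ⟨hgx, fun c hc hgc => IH _ (hlt gx hgx) hx hc hgxx hgc rfl⟩
  by_contra hyrel
  have hgyS : gy ∈ G \ S := Finset.mem_sdiff.2 ⟨hgy, fun hS => hyrel ((Finset.mem_filter.1 hS).2 _ hy hgyy)⟩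
  have hsub : F ⊆ (⋃ g ∈ S, closure ({g} : Set X)) ∪ (⋃ g ∈ G \ S, closure ({g} : Set X)) := by
    intro z hz
    obtain ⟨g, hg, hgz⟩ := (hG z).1 hz
    by_cases h : g ∈ S
    · exact Or.inl (Set.mem_biUnion h (specializes_iff_mem_closure.1 hgz))
    · exact Or.inr (Set.mem_biUnion (Finset.mem_sdiff.2 ⟨hg, h⟩) (specializes_iff_mem_closure.1 hgz))
  obtain ⟨z, -, hz1, hz2⟩ := isPreconnected_closed_iff.mp hconn.isPreconnected _ _ (hcl S) (hcl (G \ S)) hsub
    ⟨_, hxF, Set.mem_biUnion hgxS (specializes_iff_mem_closure.1 hgxx)⟩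
    ⟨_, hyF, Set.mem_biUnion hgyS (specializes_iff_mem_closure.1 hgyy)⟩
  simp only [Set.mem_iUnion, exists_prop] at hz1 hz2
  obtain ⟨g₁, hg₁, hzg₁⟩ := hz1
  obtain ⟨g₂, hg₂, hzg₂⟩ := hz2
  obtain ⟨w, ⟨hw₁, hw₂⟩, hwc⟩ := nonempty_inter_closedPoints
    (Z := closure ({g₁} : Set X) ∩ closure ({g₂} : Set X)) ⟨z, hzg₁, hzg₂⟩
    (isClosed_closure.inter isClosed_closure).isLocallyClosed
  rw [Finset.mem_sdiff] at hg₂
  refine hg₂.2 (Finset.mem_filter.2 ⟨hg₂.1, fun c hc hg₂c => Rel.trans p
    ((Finset.mem_filter.1 hg₁).2 w hwc (specializes_iff_mem_closure.2 hw₁))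
    (IH _ (hlt g₂ hg₂.1) hwc hc (specializes_iff_mem_closure.2 hw₂) hg₂c rfl)⟩)

theorem residueDegree_eq_one (x : X) (hx : IsClosed ({x} : Set X)) : p.residueDegree x = 1 := by
  letI := VarDim.resAlg p x
  have h0 : Algebra.trdeg k (X.residueField x) = 0 := by
    rw [VarDim.trdeg_residueField p x, (VarDim.sdim_eq_zero_iff_isClosed p x).2 hx, Nat.cast_zero]
  haveI : Algebra.IsAlgebraic k (X.residueField x) := trdeg_eq_zero_iff.1 h0
  have hbij := IsAlgClosed.algebraMap_bijective_of_isIntegral (k := k) (K := X.residueField x)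
  have hsurj : Function.Surjective (p.residueFieldMap x) := by
    intro b
    obtain ⟨c, hc⟩ := hbij.2 b
    refine ⟨VarDim.baseToRes (𝟙 (Spec (CommRingCat.of k))) (p x) c, ?_⟩
    have h := RingHom.congr_fun (VarDim.baseToRes_comp (𝟙 (Spec (CommRingCat.of k))) p x) c
    rw [← hc]
    refine h.symm.trans ?_
    change VarDim.baseToRes (p ≫ 𝟙 _) x c = VarDim.baseToRes p x c
    rw [Category.comp_id]
  letI := (p.residueFieldMap x).hom.toAlgebra
  exact (LinearEquiv.ofBijective (Algebra.linearMap _ (X.residueField x))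
    ⟨(p.residueFieldMap x).hom.injective, hsurj⟩).finrank_eq.symm.trans (Module.finrank_self _)

/-- On an irreducible proper scheme a zero-cycle of degree zero is algebraically trivial. -/
theorem mem_algTriv_of_deg_eq_zero [IrreducibleSpace X] {δ : X → ℤ} (hδ : Cyc.DeltaCompat p δ (fun _ => 0))
    {α : AlgebraicCycle X ℤ} (hα : α ∈ Cyc.Zk X δ 0) (hdeg : ChowOps.deg p δ α = 0) :
    α ∈ AlgEqCyc.algTriv p := by
  classical
  haveI : CompactSpace X := QuasiCompact.compactSpace_of_compactSpace p
  have hfin : (Function.support ⇑α).Finite := (α.locallyFiniteSupport.finite_inter_support_of_isCompact isCompact_univ).subset fun y hy => ⟨trivial, hy⟩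
  let T := hfin.toFinset
  have hT0 : ∀ x ∈ T, δ x = 0 := fun x hx => by
    by_contra h
    exact (hfin.mem_toFinset.1 hx) (hα x h)
  have hTc : ∀ x ∈ T, IsClosed ({x} : Set X) := fun x hx => by
    refine (VarDim.sdim_eq_zero_iff_isClosed p x).1 ?_
    have := Cyc26.delta_eq_sdim p hδ x
    rw [hT0 x hx] at this
    exact_mod_cast this.symm
  have hsum : ∑ x ∈ T, α x = 0 := by
    rw [ChowOps.deg, Cyc26.map_apply_eq_sum p δ (fun _ => (0 : ℤ)) α _ T (fun x _ => Subsingleton.elim _ _)
      (fun x _ hne _ => hfin.mem_toFinset.2 hne)] at hdeg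
    refine Eq.trans (Finset.sum_congr rfl fun x hx => ?_) hdeg
    rw [AlgebraicCycle.mapCoeff, if_pos (hT0 x hx), residueDegree_eq_one p x (hTc x hx), Nat.cast_one, mul_one]
  rcases T.eq_empty_or_nonempty with h | ⟨x₀, hx₀⟩
  · have : α = 0 := by
      refine Function.locallyFinsuppWithin.ext fun x => ?_
      by_contra hne
      have := hfin.mem_toFinset.2 (show x ∈ Function.support ⇑α from hne)
      exact Finset.notMem_empty x (h ▸ this)
    rw [this]
    exact zero_mem _
  have key : α = ∑ x ∈ T, α x • (pt x - pt x₀) := by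
    simp only [smul_sub]
    rw [Finset.sum_sub_distrib, ← Finset.sum_smul, hsum, zero_smul, sub_zero]
    refine Function.locallyFinsuppWithin.ext fun y => ?_
    rw [Function.locallyFinsuppWithin.coe_sum, Finset.sum_apply]
    simp only [Function.locallyFinsuppWithin.coe_zsmul, Pi.smul_apply, smul_eq_mul, pt,
      Function.locallyFinsuppWithin.single_apply, Pi.single_apply, mul_ite, mul_one, mul_zero]
    rw [Finset.sum_ite_eq]
    by_cases hy : y ∈ T
    · rw [if_pos hy]
    · rw [if_neg hy]
      by_contra hne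
      exact hy (hfin.mem_toFinset.2 hne)
  rw [key]
  exact sum_mem fun x hx => zsmul_mem
    (rel_of_specializes p (hTc x hx) (hTc x₀ hx₀) (genericPoint_specializes x) (genericPoint_specializes x₀)) _

end Groth.Agent.AlgEq26
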